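import Groth.Agent.NormExt.Main
import Groth.Agent.FinSection.Main
import Groth.Agent.AmpleX.BaseChange

/-!
# Relative ampleness and universally open surjective base change
-/

universe u

open CategoryTheory CategoryTheory.Limits AlgebraicGeometry TopologicalSpace
open Groth.Agent.H23.PicMul

attribute [local instance] HasDerivedCategory.standard

set_option backward.isDefEq.respectTransparency false
set_option backward.isDefEq.respectTransparency.types false

noncomputable section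

namespace Groth.Agent.RelAmpleDesc

open Groth.Agent Groth.Agent.AmpleX

variable {X Y Y' Y'' : Scheme.{u}}

/-- Quasi-compactness descends along open surjections. -/
theorem quasiCompact_of_baseChange (f : X ⟶ Y) (g : Y' ⟶ Y) [UniversallyOpen g] [Surjective g]
    [QuasiCompact (pullback.snd f g)] : QuasiCompact f := by
  classical
  rw [quasiCompact_iff_forall_isAffineOpen]
  intro V hV
  have hloc : ∀ y : V, ∃ W : Y'.Opens, IsAffineOpen W ∧ W ≤ g ⁻¹ᵁ V ∧ (y : Y) ∈ g '' (W : Set Y') := fun y => by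
    obtain ⟨y', hy'⟩ := g.surjective y.1
    obtain ⟨W, hW, hyW, hle⟩ := exists_isAffineOpen_mem_and_subset (x := y') (U := g ⁻¹ᵁ V)
      (show g y' ∈ V by rw [hy']; exact y.2)
    exact ⟨W, hW, hle, y', hyW, hy'⟩
  choose W hW hWV hyW using hloc
  obtain ⟨s, hs⟩ := hV.isCompact.elim_finite_subcover (fun y : V => g '' (W y : Set Y'))
    (fun y => g.isOpenMap _ (W y).isOpen) (fun y hy => Set.mem_iUnion.2 ⟨⟨y, hy⟩, hyW _⟩)
  let fst' := pullback.fst f g
  let snd' := pullback.snd f g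
  have hc : ∀ y ∈ s, IsCompact (fst' '' ((snd' ⁻¹ᵁ W y : (pullback f g).Opens) : Set (pullback f g : Scheme.{u}))) :=
    fun y _ => (snd'.isCompact_preimage (hW y).isCompact).image fst'.continuous
  have key : ((f ⁻¹ᵁ V : X.Opens) : Set X) =
      ⋃ y ∈ s, fst' '' ((snd' ⁻¹ᵁ W y : (pullback f g).Opens) : Set (pullback f g : Scheme.{u})) := by
    refine Set.ext fun x => ⟨fun hx => ?_, fun hx => ?_⟩
    · obtain ⟨y, hys, y', hy', e⟩ := Set.mem_iUnion₂.1 (hs (show f x ∈ (V : Set Y) from hx))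
      obtain ⟨z, hz₁, hz₂⟩ := Scheme.Pullback.exists_preimage_pullback x y' e.symm
      refine Set.mem_iUnion₂.2 ⟨y, hys, z, ?_, hz₁⟩
      show snd' z ∈ W y
      rw [show snd' z = y' from hz₂]; exact hy'
    · obtain ⟨y, -, z, hz, rfl⟩ := Set.mem_iUnion₂.1 hx
      show f (fst' z) ∈ V
      rw [← Scheme.Hom.comp_apply, pullback.condition, Scheme.Hom.comp_apply]
      exact hWV y hz
  rw [key]
  exact s.isCompact_biUnion hc

/-- Local sections turn relative ampleness of the base change into relative ampleness over the cover. -/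
theorem isRelAmple_of_locSec (f : X ⟶ Y) [QuasiCompact f] (g : Y' ⟶ Y) (π : Y'' ⟶ Y)
    (hsec : FinSection.LocSec g π) {L : X.Modules}
    (h : RelAmple.IsRelAmple (pullback.snd f g) ((Scheme.Modules.pullback (pullback.fst f g)).obj L)) :
    RelAmple.IsRelAmple (pullback.snd f π) ((Scheme.Modules.pullback (pullback.fst f π)).obj L) := by
  refine isRelAmple_of_ampleOn fun z => ?_
  obtain ⟨U, hU, t, ht⟩ := hsec (pullback.snd f π z)
  obtain ⟨W, hW, hzW, -⟩ := exists_isAffineOpen_mem_and_subset (x := (⟨_, hU⟩ : U.toScheme))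
    (U := (⊤ : U.toScheme.Opens)) trivial
  let f' := pullback.snd f g
  let T := pullback f' t
  let a : T ⟶ X := pullback.fst f' t ≫ pullback.fst f g
  let b : T ⟶ U.toScheme := pullback.snd f' t
  have sq : IsPullback a b f (U.ι ≫ π) := by
    rw [← ht]
    exact (IsPullback.of_hasPullback f' t).paste_horiz (IsPullback.of_hasPullback f g)
  let k : T ⟶ pullback f π := pullback.lift a (b ≫ U.ι) (by rw [sq.w, Category.assoc])
  have sqk : IsPullback k b (pullback.snd f π) U.ι := by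
    refine IsPullback.of_right ?_ (pullback.lift_snd _ _ _) (IsPullback.of_hasPullback f π)
    simpa only [k, pullback.lift_fst] using sq
  haveI : IsOpenImmersion k := MorphismProperty.of_isPullback (P := @IsOpenImmersion) sqk.flip inferInstance
  have hT := isRelAmple_baseChange f' t h
  refine ⟨U.ι ''ᵁ W, _, (b ⁻¹ᵁ W).ι ≫ k, inferInstance, ⟨_, hzW, rfl⟩, fun z' hz' => ?_, ?_⟩
  · obtain ⟨w, hw, e⟩ := hz'
    obtain ⟨y, hy₁, hy₂⟩ := Scheme.Pullback.exists_preimage_pullback z' w e.symm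
    let φ := sqk.isoPullback
    refine ⟨⟨φ.inv y, ?_⟩, ?_⟩
    · show b (φ.inv y) ∈ W
      rw [← Scheme.Hom.comp_apply, sqk.isoPullback_inv_snd]
      exact Eq.mpr (congrArg (· ∈ W) hy₂) hw
    · rw [Scheme.Hom.comp_apply]
      show k (φ.inv y) = z'
      rw [← Scheme.Hom.comp_apply, sqk.isoPullback_inv_fst]
      exact hy₁
  refine isAmple_of_iso (cl_eq_iff.1 ?_).some (hT.2 ⟨W, hW⟩)
  rw [cl_restrict, cl_restrict]
  show PicF.pullCl (b ⁻¹ᵁ W).ι (PicF.pullCl (pullback.fst f' t) (PicF.pullCl (pullback.fst f g) (PicF.cl L))) =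
    PicF.pullCl ((b ⁻¹ᵁ W).ι ≫ k) (PicF.pullCl (pullback.fst f π) (PicF.cl L))
  rw [PicClLib.pullCl_comp, PicClLib.pullCl_comp, PicClLib.pullCl_comp, Category.assoc, Category.assoc,
    show k ≫ pullback.fst f π = a from pullback.lift_fst _ _ _]

/-- Relative ampleness composes with affine morphisms on the base. -/
theorem isRelAmple_comp_affine {f : X ⟶ Y} (π : Y ⟶ Y') [IsAffineHom π] {L : X.Modules}
    (h : RelAmple.IsRelAmple f L) : RelAmple.IsRelAmple (f ≫ π) L := by
  haveI := h.1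
  exact ⟨inferInstance, fun V => h.2 ⟨π ⁻¹ᵁ V.1, V.2.preimage π⟩⟩

/-- Properness of a closed subset restricts to opens of the base. -/
theorem isProperOver_restrict (f : X ⟶ Y) (V : Y.Opens) (Z : Closeds X)
    (hZ : IsProper ((Scheme.IdealSheafData.vanishingIdeal Z).subschemeι ≫ f)) :
    ClSub.IsProperOver (f ∣_ V) ((f ⁻¹ᵁ V).ι ⁻¹' (Z : Set X)) := by
  haveI := hZ
  let U : X.Opens := f ⁻¹ᵁ V
  let ZU : Closeds U.toScheme := ⟨U.ι ⁻¹' (Z : Set X), Z.isClosed.preimage U.ι.continuous⟩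
  refine ⟨ZU.isClosed, ?_⟩
  let ιR := (Scheme.IdealSheafData.vanishingIdeal ZU).subschemeι
  let ιZ := (Scheme.IdealSheafData.vanishingIdeal Z).subschemeι
  haveI := H23.RedSub.isReduced_vanishingIdeal ZU
  obtain ⟨b, hb⟩ := H23.RedSub.exists_lift_closed ιR (ιZ ∣_ U) (by
    rintro _ ⟨z, rfl⟩
    have hz : ιR z ∈ Set.range ιR := ⟨z, rfl⟩
    rw [H23.RedSub.range_vanishingIdeal] at hz
    obtain ⟨w, hw⟩ : U.ι (ιR z) ∈ Set.range ιZ := by rw [H23.RedSub.range_vanishingIdeal]; exact hz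
    have hwU : ιZ w ∈ U := by rw [hw]; exact (ιR z).2
    refine ⟨⟨w, hwU⟩, U.ι.isEmbedding.injective ?_⟩
    rw [← Scheme.Hom.comp_apply (ιZ ∣_ U) U.ι, morphismRestrict_ι]
    exact hw)
  haveI : IsClosedImmersion (b ≫ (ιZ ∣_ U)) := by rw [hb]; infer_instance
  haveI : IsClosedImmersion b := IsClosedImmersion.of_comp b (ιZ ∣_ U)
  haveI : IsProper ((ιZ ≫ f) ∣_ V) := inferInstance
  have e : ιR ≫ (f ∣_ V) = b ≫ ((ιZ ≫ f) ∣_ V) := by
    rw [morphismRestrict_comp, ← hb, Category.assoc]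
  show IsProper (ιR ≫ (f ∣_ V))
  rw [e]
  infer_instance

end Groth.Agent.RelAmpleDesc
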